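/-
Sections and nine diagrams.
-/
import Mathlib

universe v u

open CategoryTheory CategoryTheory.Limits

namespace Groth.Agent.NineSec

variable {C : Type u} [Category.{v} C] [Abelian C] {A₁ A₂ A₃ B₂ C₁ C₂ C₃ : C}
    {i₁ : A₁ ⟶ A₂} {p₁ : A₂ ⟶ A₃} {wA : i₁ ≫ p₁ = 0} (hA : (ShortComplex.mk i₁ p₁ wA).ShortExact)
    {i₂ : A₂ ⟶ B₂} {π₂ : B₂ ⟶ C₂} {wB : i₂ ≫ π₂ = 0} (hB : (ShortComplex.mk i₂ π₂ wB).ShortExact)
    {j : C₁ ⟶ C₂} {q : C₂ ⟶ C₃} {wC : j ≫ q = 0} (hC : (ShortComplex.mk j q wC).ShortExact)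

include hA hB hC in
/-- completing a first row to a nine diagram -/
theorem complete {B : C} (ar : B ⟶ B₂) [Mono ar] (a : A₁ ⟶ B) (c : B ⟶ C₁) (wac : a ≫ c = 0)
    (ha : a ≫ ar = i₁ ≫ i₂) (hc : c ≫ j = ar ≫ π₂) (hac : (ShortComplex.mk a c wac).ShortExact) :
    ∃ (a' : A₃ ⟶ cokernel ar) (c' : cokernel ar ⟶ C₃) (wac' : a' ≫ c' = 0),
      p₁ ≫ a' = i₂ ≫ cokernel.π ar ∧ cokernel.π ar ≫ c' = π₂ ≫ q ∧ (ShortComplex.mk a' c' wac').ShortExact := by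
  have := hA.mono_f; have := hA.epi_g; have := hB.mono_f; have := hB.epi_g
  have := hC.mono_f; have := hC.epi_g; have := hac.mono_f; have := hac.epi_g
  dsimp at *
  let a' : A₃ ⟶ cokernel ar := hA.exact.desc (i₂ ≫ cokernel.π ar)
    (by dsimp; rw [← Category.assoc, ← ha, Category.assoc, cokernel.condition, comp_zero])
  have ha' : p₁ ≫ a' = i₂ ≫ cokernel.π ar := hA.exact.g_desc _ _
  let c' : cokernel ar ⟶ C₃ := cokernel.desc ar (π₂ ≫ q) (by rw [← reassoc_of% hc, wC, comp_zero])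
  have hc' : cokernel.π ar ≫ c' = π₂ ≫ q := cokernel.π_desc _ _ _
  have wac' : a' ≫ c' = 0 := by
    rw [← cancel_epi p₁, reassoc_of% ha', hc', reassoc_of% wB, zero_comp, comp_zero]
  have hmono : Mono a' := by
    rw [Preadditive.mono_iff_cancel_zero]
    intro T x hx
    obtain ⟨T₁, π₁, hπ₁, y, hy⟩ := surjective_up_to_refinements_of_epi p₁ x
    have h0 : (y ≫ i₂) ≫ cokernel.π ar = 0 := by
      rw [Category.assoc, ← ha', ← reassoc_of% hy, hx, comp_zero]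
    obtain ⟨T₂, π₂', hπ₂', b, hb⟩ := (ShortComplex.exact_iff_exact_up_to_refinements _).1
      (ShortComplex.exact_cokernel ar) (y ≫ i₂) h0
    dsimp at hb
    have hbc : b ≫ c = 0 := by
      rw [← cancel_mono j, Category.assoc, hc, ← reassoc_of% hb, wB, comp_zero, comp_zero, zero_comp]
    obtain ⟨T₃, π₃, hπ₃, z, hz⟩ := (ShortComplex.exact_iff_exact_up_to_refinements _).1 hac.exact b hbc
    dsimp at hz
    have hy' : π₃ ≫ π₂' ≫ y = z ≫ i₁ := by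
      rw [← cancel_mono i₂, Category.assoc, Category.assoc, Category.assoc, hb, reassoc_of% hz, ha]
    rw [← cancel_epi π₁, ← cancel_epi π₂', ← cancel_epi π₃, hy, reassoc_of% hy', wA]
    simp
  have : Epi (cokernel.π ar ≫ c') := by rw [hc']; infer_instance
  have hepi : Epi c' := epi_of_epi (cokernel.π ar) c'
  refine ⟨a', c', wac', ha', hc', { exact := ?_, mono_f := hmono, epi_g := hepi }⟩
  rw [ShortComplex.exact_iff_exact_up_to_refinements]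
  intro T x hx
  dsimp at x hx ⊢
  obtain ⟨T₁, π₁, hπ₁, y, hy⟩ := surjective_up_to_refinements_of_epi (cokernel.π ar) x
  obtain ⟨T₂, π₂', hπ₂', w, hw⟩ := (ShortComplex.exact_iff_exact_up_to_refinements _).1 hC.exact (y ≫ π₂) (by
    show (y ≫ π₂) ≫ q = 0
    rw [Category.assoc, ← hc', ← reassoc_of% hy, hx, comp_zero])
  dsimp at hw
  obtain ⟨T₃, π₃, hπ₃, b, hb⟩ := surjective_up_to_refinements_of_epi c w
  obtain ⟨T₄, π₄, hπ₄, z, hz⟩ := (ShortComplex.exact_iff_exact_up_to_refinements _).1 hB.exact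
    (π₃ ≫ π₂' ≫ y - b ≫ ar) (by
      show _ ≫ π₂ = 0
      simp [hw, ← hc, reassoc_of% hb])
  dsimp at hz
  refine ⟨T₄, π₄ ≫ π₃ ≫ π₂' ≫ π₁, inferInstance, z ≫ p₁, ?_⟩
  rw [Category.assoc, Category.assoc, Category.assoc, hy, Category.assoc, ha', ← reassoc_of% hz]
  simp

variable {w : (i₁ ≫ i₂) ≫ (π₂ ≫ q) = 0}


variable {h₃ : (i₁ ≫ i₂) ≫ π₂ = 0} {g : (ShortComplex.mk (i₁ ≫ i₂) (π₂ ≫ q) w).homology ⟶ C₁}
  (hg : g ≫ j = (ShortComplex.mk (i₁ ≫ i₂) (π₂ ≫ q) w).homologyι ≫ (ShortComplex.mk (i₁ ≫ i₂) (π₂ ≫ q) w).descOpcycles π₂ h₃)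

include hg in
theorem section_comp (s : C₁ ⟶ (ShortComplex.mk (i₁ ≫ i₂) (π₂ ≫ q) w).homology) (hs : s ≫ g = 𝟙 C₁) :
    pullback.fst s (ShortComplex.mk (i₁ ≫ i₂) (π₂ ≫ q) w).homologyπ ≫ j = pullback.snd s (ShortComplex.mk (i₁ ≫ i₂) (π₂ ≫ q) w).homologyπ ≫ (ShortComplex.mk (i₁ ≫ i₂) (π₂ ≫ q) w).iCycles ≫ π₂ := by
  have h := congrArg (fun x => pullback.fst s (ShortComplex.mk (i₁ ≫ i₂) (π₂ ≫ q) w).homologyπ ≫ x ≫ j) hs
  simp only [Category.assoc, Category.id_comp, hg] at h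
  rw [← h, pullback.condition_assoc, ShortComplex.homology_π_ι_assoc, ShortComplex.p_descOpcycles]

include hg hA hB in
theorem row_of_section (s : C₁ ⟶ (ShortComplex.mk (i₁ ≫ i₂) (π₂ ≫ q) w).homology) (hs : s ≫ g = 𝟙 C₁) :
    ∃ (a : A₁ ⟶ pullback s (ShortComplex.mk (i₁ ≫ i₂) (π₂ ≫ q) w).homologyπ) (wac : a ≫ pullback.fst s (ShortComplex.mk (i₁ ≫ i₂) (π₂ ≫ q) w).homologyπ = 0),
      a ≫ pullback.snd s (ShortComplex.mk (i₁ ≫ i₂) (π₂ ≫ q) w).homologyπ ≫ (ShortComplex.mk (i₁ ≫ i₂) (π₂ ≫ q) w).iCycles = i₁ ≫ i₂ ∧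
      pullback.fst s (ShortComplex.mk (i₁ ≫ i₂) (π₂ ≫ q) w).homologyπ ≫ j = pullback.snd s (ShortComplex.mk (i₁ ≫ i₂) (π₂ ≫ q) w).homologyπ ≫ (ShortComplex.mk (i₁ ≫ i₂) (π₂ ≫ q) w).iCycles ≫ π₂ ∧
      (ShortComplex.mk a (pullback.fst s (ShortComplex.mk (i₁ ≫ i₂) (π₂ ≫ q) w).homologyπ) wac).ShortExact := by
  have := hA.mono_f; have := hB.mono_f
  let a : A₁ ⟶ pullback s (ShortComplex.mk (i₁ ≫ i₂) (π₂ ≫ q) w).homologyπ := pullback.lift 0 (ShortComplex.mk (i₁ ≫ i₂) (π₂ ≫ q) w).toCycles (by simp)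
  have h1 : a ≫ pullback.fst s (ShortComplex.mk (i₁ ≫ i₂) (π₂ ≫ q) w).homologyπ = 0 := pullback.lift_fst _ _ _
  have h2 : a ≫ pullback.snd s (ShortComplex.mk (i₁ ≫ i₂) (π₂ ≫ q) w).homologyπ ≫ (ShortComplex.mk (i₁ ≫ i₂) (π₂ ≫ q) w).iCycles = i₁ ≫ i₂ :=
    (pullback.lift_snd_assoc _ _ _ _).trans (ShortComplex.toCycles_i _)
  have : Mono i₁ := hA.mono_f
  have : Mono i₂ := hB.mono_f
  have hm : Mono a := mono_of_mono_fac (h := i₁ ≫ i₂) h2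
  refine ⟨a, h1, h2, section_comp hg s hs, { exact := ?_, mono_f := hm, epi_g := inferInstance }⟩
  rw [ShortComplex.exact_iff_exact_up_to_refinements]
  intro T x hx
  dsimp at x hx ⊢
  have hx' : (x ≫ pullback.snd s (ShortComplex.mk (i₁ ≫ i₂) (π₂ ≫ q) w).homologyπ) ≫ (ShortComplex.mk (i₁ ≫ i₂) (π₂ ≫ q) w).homologyπ = 0 := by
    rw [Category.assoc, ← pullback.condition, reassoc_of% hx, zero_comp]
  obtain ⟨T', π, hπ, z, hz⟩ := (ShortComplex.exact_iff_exact_up_to_refinements _).1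
    (ShortComplex.exact_of_g_is_cokernel (ShortComplex.mk _ _ (ShortComplex.mk (i₁ ≫ i₂) (π₂ ≫ q) w).toCycles_comp_homologyπ)
      (ShortComplex.mk (i₁ ≫ i₂) (π₂ ≫ q) w).homologyIsCokernel) _ hx'
  refine ⟨T', π, hπ, z, ?_⟩
  apply pullback.hom_ext
  · simp [h1, hx]
  · rw [Category.assoc, Category.assoc, show a ≫ pullback.snd _ _ = _ from pullback.lift_snd _ _ _]
    exact hz

include hA hB hC hg in
theorem main :
    (∀ B₁ : Subobject B₂,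
      (∃ (a : A₁ ⟶ (B₁ : C)) (c : (B₁ : C) ⟶ C₁) (wac : a ≫ c = 0)
         (a' : A₃ ⟶ cokernel B₁.arrow) (c' : cokernel B₁.arrow ⟶ C₃) (wac' : a' ≫ c' = 0),
         a ≫ B₁.arrow = i₁ ≫ i₂ ∧ c ≫ j = B₁.arrow ≫ π₂ ∧ (ShortComplex.mk a c wac).ShortExact ∧
         p₁ ≫ a' = i₂ ≫ cokernel.π B₁.arrow ∧ cokernel.π B₁.arrow ≫ c' = π₂ ≫ q ∧
         (ShortComplex.mk a' c' wac').ShortExact) ↔
      ∃ s : C₁ ⟶ (ShortComplex.mk (i₁ ≫ i₂) (π₂ ≫ q) w).homology, s ≫ g = 𝟙 C₁ ∧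
        (Subobject.map (ShortComplex.mk (i₁ ≫ i₂) (π₂ ≫ q) w).iCycles).obj ((Subobject.pullback (ShortComplex.mk (i₁ ≫ i₂) (π₂ ≫ q) w).homologyπ).obj (imageSubobject s)) = B₁) ∧
    (∀ s s' : C₁ ⟶ (ShortComplex.mk (i₁ ≫ i₂) (π₂ ≫ q) w).homology, s ≫ g = 𝟙 C₁ → s' ≫ g = 𝟙 C₁ →
      (Subobject.map (ShortComplex.mk (i₁ ≫ i₂) (π₂ ≫ q) w).iCycles).obj ((Subobject.pullback (ShortComplex.mk (i₁ ≫ i₂) (π₂ ≫ q) w).homologyπ).obj (imageSubobject s)) =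
        (Subobject.map (ShortComplex.mk (i₁ ≫ i₂) (π₂ ≫ q) w).iCycles).obj ((Subobject.pullback (ShortComplex.mk (i₁ ≫ i₂) (π₂ ≫ q) w).homologyπ).obj (imageSubobject s')) → s = s') := by
  have := hC.mono_f
  have hmono : ∀ s : C₁ ⟶ (ShortComplex.mk (i₁ ≫ i₂) (π₂ ≫ q) w).homology, s ≫ g = 𝟙 C₁ → Mono s := fun s hs =>
    (SplitMono.mk g hs).mono
  have hsub : ∀ (s : C₁ ⟶ (ShortComplex.mk (i₁ ≫ i₂) (π₂ ≫ q) w).homology) (_ : Mono s),
      (Subobject.map (ShortComplex.mk (i₁ ≫ i₂) (π₂ ≫ q) w).iCycles).obj ((Subobject.pullback (ShortComplex.mk (i₁ ≫ i₂) (π₂ ≫ q) w).homologyπ).obj (imageSubobject s)) =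
        Subobject.mk (pullback.snd s (ShortComplex.mk (i₁ ≫ i₂) (π₂ ≫ q) w).homologyπ ≫ (ShortComplex.mk (i₁ ≫ i₂) (π₂ ≫ q) w).iCycles) := fun s _ => by
    rw [imageSubobject_mono, Subobject.pullback_obj_mk (IsPullback.of_hasPullback s (ShortComplex.mk (i₁ ≫ i₂) (π₂ ≫ q) w).homologyπ),
      Subobject.map_mk]
  refine ⟨fun B₁ => ⟨?_, ?_⟩, fun s s' hs hs' h => ?_⟩
  · rintro ⟨a, c, wac, a', c', wac', ha, hc, hac, -, -, -⟩
    have := hac.epi_g; have := hac.mono_f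
    have := hC.mono_f
    have hk : B₁.arrow ≫ π₂ ≫ q = 0 := by rw [← reassoc_of% hc, wC, comp_zero]
    let l : (B₁ : C) ⟶ (ShortComplex.mk (i₁ ≫ i₂) (π₂ ≫ q) w).cycles := (ShortComplex.mk (i₁ ≫ i₂) (π₂ ≫ q) w).liftCycles B₁.arrow hk
    have hl : l ≫ (ShortComplex.mk (i₁ ≫ i₂) (π₂ ≫ q) w).iCycles = B₁.arrow := (ShortComplex.mk (i₁ ≫ i₂) (π₂ ≫ q) w).liftCycles_i _ _
    have hal : a ≫ l = (ShortComplex.mk (i₁ ≫ i₂) (π₂ ≫ q) w).toCycles := by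
      rw [← cancel_mono (ShortComplex.mk (i₁ ≫ i₂) (π₂ ≫ q) w).iCycles, Category.assoc, hl, ha, ShortComplex.toCycles_i]
    let s : C₁ ⟶ (ShortComplex.mk (i₁ ≫ i₂) (π₂ ≫ q) w).homology := hac.exact.desc (l ≫ (ShortComplex.mk (i₁ ≫ i₂) (π₂ ≫ q) w).homologyπ)
      (by dsimp; rw [reassoc_of% hal, ShortComplex.toCycles_comp_homologyπ])
    have hsd : c ≫ s = l ≫ (ShortComplex.mk (i₁ ≫ i₂) (π₂ ≫ q) w).homologyπ := hac.exact.g_desc _ _
    have hs : s ≫ g = 𝟙 C₁ := by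
      rw [← cancel_mono j, ← cancel_epi c]
      rw [Category.assoc, hg, reassoc_of% hsd, ShortComplex.homology_π_ι_assoc, ShortComplex.p_descOpcycles,
        reassoc_of% hl, Category.id_comp, hc]
    refine ⟨s, hs, ?_⟩
    have := hmono s hs
    rw [hsub s this]
    obtain ⟨aP, waP, haP, hPc, hPac⟩ := row_of_section hA hB hg s hs
    let φ : (B₁ : C) ⟶ pullback s (ShortComplex.mk (i₁ ≫ i₂) (π₂ ≫ q) w).homologyπ := pullback.lift c l hsd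
    have hφ : φ ≫ pullback.snd s (ShortComplex.mk (i₁ ≫ i₂) (π₂ ≫ q) w).homologyπ ≫ (ShortComplex.mk (i₁ ≫ i₂) (π₂ ≫ q) w).iCycles = B₁.arrow :=
      (pullback.lift_snd_assoc _ _ _ _).trans hl
    have hφm : Mono φ := mono_of_mono_fac (h := B₁.arrow) hφ
    have haφ : a ≫ φ = aP := by
      rw [← cancel_mono (pullback.snd s (ShortComplex.mk (i₁ ≫ i₂) (π₂ ≫ q) w).homologyπ ≫ (ShortComplex.mk (i₁ ≫ i₂) (π₂ ≫ q) w).iCycles)]
      rw [Category.assoc, hφ, haP, ha]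
    have hφe : Epi φ := by
      rw [epi_iff_surjective_up_to_refinements]
      intro T x
      obtain ⟨T₁, π₁, hπ₁, b, hb⟩ := surjective_up_to_refinements_of_epi c (x ≫ pullback.fst s (ShortComplex.mk (i₁ ≫ i₂) (π₂ ≫ q) w).homologyπ)
      obtain ⟨T₂, π₂', hπ₂', z, hz⟩ := (ShortComplex.exact_iff_exact_up_to_refinements _).1 hPac.exact
        (π₁ ≫ x - b ≫ φ) (by
          show _ ≫ pullback.fst s (ShortComplex.mk (i₁ ≫ i₂) (π₂ ≫ q) w).homologyπ = 0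
          rw [Preadditive.sub_comp, Category.assoc, Category.assoc,
            show φ ≫ pullback.fst _ _ = c from pullback.lift_fst _ _ _, hb, sub_self])
      dsimp at hz
      refine ⟨T₂, π₂' ≫ π₁, inferInstance, π₂' ≫ b + z ≫ a, ?_⟩
      rw [Preadditive.add_comp, Category.assoc z, haφ, ← hz]
      simp
    have := isIso_of_mono_of_epi φ
    conv_rhs => rw [← Subobject.mk_arrow B₁]
    exact (Subobject.mk_eq_mk_of_comm _ _ (asIso φ) hφ).symm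
  · rintro ⟨s, hs, rfl⟩
    have := hmono s hs
    rw [hsub s this]
    obtain ⟨aP, waP, haP, hPc, hPac⟩ := row_of_section hA hB hg s hs
    let B := Subobject.mk (pullback.snd s (ShortComplex.mk (i₁ ≫ i₂) (π₂ ≫ q) w).homologyπ ≫ (ShortComplex.mk (i₁ ≫ i₂) (π₂ ≫ q) w).iCycles)
    let e := Subobject.underlyingIso (pullback.snd s (ShortComplex.mk (i₁ ≫ i₂) (π₂ ≫ q) w).homologyπ ≫ (ShortComplex.mk (i₁ ≫ i₂) (π₂ ≫ q) w).iCycles)
    have wac : (aP ≫ e.inv) ≫ (e.hom ≫ pullback.fst s (ShortComplex.mk (i₁ ≫ i₂) (π₂ ≫ q) w).homologyπ) = 0 := by simp [waP]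
    have hac : (ShortComplex.mk (aP ≫ e.inv) (e.hom ≫ pullback.fst s (ShortComplex.mk (i₁ ≫ i₂) (π₂ ≫ q) w).homologyπ) wac).ShortExact :=
      ShortComplex.shortExact_of_iso (ShortComplex.isoMk (S₁ := ShortComplex.mk aP _ waP) (S₂ := ShortComplex.mk (aP ≫ e.inv) _ wac) (Iso.refl _) e.symm (Iso.refl _) (Category.id_comp _) (((Iso.inv_hom_id_assoc e _)).trans (Category.comp_id _).symm)) hPac
    have ha : (aP ≫ e.inv) ≫ B.arrow = i₁ ≫ i₂ := by simp [B, e, haP]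
    have hc : (e.hom ≫ pullback.fst s (ShortComplex.mk (i₁ ≫ i₂) (π₂ ≫ q) w).homologyπ) ≫ j = B.arrow ≫ π₂ := by
      rw [Category.assoc, hPc, show B.arrow = _ from (Subobject.underlyingIso_hom_comp_eq_mk _).symm]
      exact (congrArg (e.hom ≫ ·) (Category.assoc _ _ _).symm).trans (Category.assoc _ _ _).symm
    obtain ⟨a', c', wac', h1, h2, h3⟩ := complete hA hB hC B.arrow _ _ wac ha hc hac
    exact ⟨_, _, wac, a', c', wac', ha, hc, hac, h1, h2, h3⟩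
  · have := hmono s hs
    have := hmono s' hs'
    rw [hsub s inferInstance, hsub s' inferInstance] at h
    let e := Subobject.isoOfMkEqMk _ _ h
    have he : e.hom ≫ pullback.snd s' (ShortComplex.mk (i₁ ≫ i₂) (π₂ ≫ q) w).homologyπ ≫ (ShortComplex.mk (i₁ ≫ i₂) (π₂ ≫ q) w).iCycles =
        pullback.snd s (ShortComplex.mk (i₁ ≫ i₂) (π₂ ≫ q) w).homologyπ ≫ (ShortComplex.mk (i₁ ≫ i₂) (π₂ ≫ q) w).iCycles := Subobject.ofMkLEMk_comp _
    have he' : e.hom ≫ pullback.snd s' (ShortComplex.mk (i₁ ≫ i₂) (π₂ ≫ q) w).homologyπ = pullback.snd s (ShortComplex.mk (i₁ ≫ i₂) (π₂ ≫ q) w).homologyπ := by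
      rw [← cancel_mono (ShortComplex.mk (i₁ ≫ i₂) (π₂ ≫ q) w).iCycles, Category.assoc, he]
    have hef : e.hom ≫ pullback.fst s' (ShortComplex.mk (i₁ ≫ i₂) (π₂ ≫ q) w).homologyπ = pullback.fst s (ShortComplex.mk (i₁ ≫ i₂) (π₂ ≫ q) w).homologyπ := by
      rw [← cancel_mono j, Category.assoc, section_comp hg s' hs', section_comp hg s hs, reassoc_of% he']
    rw [← cancel_epi (pullback.fst s (ShortComplex.mk (i₁ ≫ i₂) (π₂ ≫ q) w).homologyπ), pullback.condition, ← he', Category.assoc,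
      ← pullback.condition, reassoc_of% hef]

end Groth.Agent.NineSec
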